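import Cfsg.Agent.H759.Pair.Tools
import Cfsg.Agent.H545.PQ.Suzuki
import Cfsg.Agent.QTKE.SuzRow
import Cfsg.Agent.SporRec.SuzNo143
import Cfsg.Agent.H690.Spor.SuzRow
import Cfsg.Agent.H695.Spor.RowB
import Cfsg.Agent.KFacts.SuzTwoB
import Cfsg.Agent.CpAutSuz.ThreeC
import Cfsg.Agent.H759.NH.SuzTits

/-!
# The pair row of the sporadic Suzuki group (S4938, helper759)

Elements of order 14 (centralizer inside that of a `2B` involution, of order 161280), 13 and 11.
-/

set_option autoImplicit false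
set_option maxRecDepth 100000

namespace Cfsg.Agent.H759.Pair.Suz

open Subgroup Cfsg Cfsg.Spor Cfsg.Agent.H665.NoPQ Cfsg.Agent.H730.Pair Cfsg.Agent.H713
open Cfsg.Agent.SporRec.SuzPerm Cfsg.Agent.H545.PQ.Suzuki Cfsg.Agent.H759.Pair

/-- the fixed points of the word `w` are among the members of `l` -/
noncomputable def cf (w : List Suz.Gen) (l : List ℕ) : Bool :=
  allP (fun i => Bool.or (Nat.ble 1782 i) (Bool.or (Bool.not (Nat.beq (tr w i) i)) (l.any fun j => Nat.beq i j))) 12 0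

theorem fx_le {w : List Suz.Gen} {l : List ℕ} (h : cf w l = true) : fx φ (el w) ≤ l.length := by
  have h1 : ∀ i : Fin 1782, φ (el w) i = i → (i : ℕ) ∈ l := by
    intro i hi
    have h2 := allP_spec _ 12 0 h i (Nat.zero_le _) (by have := i.2; norm_num; omega)
    rw [phi_el] at hi
    have h3 : tr w i = i := by rw [← prod_val, hi]
    rw [Bool.or_eq_true, Bool.or_eq_true] at h2
    rcases h2 with h2 | h2 | h2
    · have := Nat.le_of_ble_eq_true h2
      have := i.2
      omega
    · rw [h3] at h2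
      simp at h2
    · obtain ⟨j, hj, hj2⟩ := List.any_eq_true.1 h2
      rw [Nat.eq_of_beq_eq_true hj2]
      exact hj
  unfold fx
  calc {i : Fin 1782 | φ (el w) i = i}.ncard ≤ ((l.toFinset : Finset ℕ) : Set ℕ).ncard :=
        Set.ncard_le_ncard_of_injOn Fin.val (fun i hi => by simpa using h1 i hi) Fin.val_injective.injOn
          (Set.toFinite _)
    _ = l.toFinset.card := Set.ncard_coe_finset _
    _ ≤ l.length := l.toFinset_card_le

theorem fixed_of_tr {w : List Suz.Gen} (n : ℕ) (hn : n < 1782) (h : Nat.beq (tr w n) n = true) :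
    φ (el w) ⟨n, hn⟩ = ⟨n, hn⟩ := by
  rw [phi_el]
  apply Fin.ext
  rw [prod_val]
  exact Nat.eq_of_beq_eq_true h

theorem one_lt_fx {w : List Suz.Gen} (n m : ℕ) (hn : n < 1782) (hm : m < 1782) (hnm : n ≠ m)
    (h : Nat.beq (tr w n) n = true) (h' : Nat.beq (tr w m) m = true) : 1 < fx φ (el w) := by
  unfold fx
  rw [Set.one_lt_ncard_iff (Set.toFinite _)]
  exact ⟨⟨n, hn⟩, ⟨m, hm⟩, fixed_of_tr n hn h, fixed_of_tr m hm h', fun h => hnm (congrArg Fin.val h)⟩

theorem el_pow_eq {w : List Suz.Gen} {n : ℕ} (h : chk (powWord w n) = true) : el w ^ n = 1 := by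
  apply Cfsg.Agent.QTKE.SuzRow.φ_inj Cfsg.Agent.SporadicRecognition.SuzOrder.simple
  rw [← el_pow, phi_el, prod_eq_one h, map_one]

theorem el_ne {w : List Suz.Gen} (n : ℕ) (hn : n < 1782) (h : Nat.beq (tr w n) n = false) : el w ≠ 1 := by
  intro h1
  have h2 : φ (el w) ⟨n, hn⟩ = ⟨n, hn⟩ := by rw [h1, map_one]; rfl
  rw [phi_el] at h2
  have h3 := congrArg Fin.val h2
  rw [prod_val] at h3
  exact Nat.ne_of_beq_eq_false h h3

/-! ### The words -/

/-- order 5 -/
noncomputable def w5 : List Suz.Gen := [.a, .b]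
/-- order 7 -/
noncomputable def w7 : List Suz.Gen := [.c, .f, .b, .g]
/-- order 11 -/
noncomputable def w11 : List Suz.Gen := [.e, .c, .g, .d, .b, .f]
/-- order 13 -/
noncomputable def w13 : List Suz.Gen := [.e, .c, .b, .a, .g, .b, .d]

theorem order_w5 : orderOf (el w5) = 5 :=
  have : Fact (Nat.Prime 5) := ⟨by norm_num⟩
  orderOf_eq_prime (el_pow_eq (by decide +kernel)) (el_ne 1 (by norm_num) (by decide +kernel))

theorem order_w7 : orderOf (el w7) = 7 :=
  have : Fact (Nat.Prime 7) := ⟨by norm_num⟩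
  orderOf_eq_prime (el_pow_eq (by decide +kernel)) (el_ne 1 (by norm_num) (by decide +kernel))

theorem order_w11 : orderOf (el w11) = 11 :=
  have : Fact (Nat.Prime 11) := ⟨by norm_num⟩
  orderOf_eq_prime (el_pow_eq (by decide +kernel)) (el_ne 1 (by norm_num) (by decide +kernel))

theorem order_w13 : orderOf (el w13) = 13 :=
  have : Fact (Nat.Prime 13) := ⟨by norm_num⟩
  orderOf_eq_prime (el_pow_eq (by decide +kernel)) (el_ne 1 (by norm_num) (by decide +kernel))

theorem fx_w5 : fx φ (el w5) ≤ 2 := fx_le (l := [0, 995]) (by decide +kernel)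

theorem fx_w5' : 1 < fx φ (el w5) :=
  one_lt_fx 0 995 (by norm_num) (by norm_num) (by norm_num) (by decide +kernel) (by decide +kernel)

theorem fx_w7 : fx φ (el w7) ≤ 4 := fx_le (l := [159, 245, 918, 1275]) (by decide +kernel)

theorem fx_w7' : 1 < fx φ (el w7) :=
  one_lt_fx 159 245 (by norm_num) (by norm_num) (by norm_num) (by decide +kernel) (by decide +kernel)

theorem fx_w11 : fx φ (el w11) ≤ 0 := fx_le (l := []) (by decide +kernel)

theorem fx_w13 : fx φ (el w13) ≤ 1 := fx_le (l := [995]) (by decide +kernel)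

section main

open Cfsg.Agent.KFacts.SuzLFour Cfsg.Agent.KFacts.SuzTwoB

theorem card_S : Nat.card Cfsg.Spor.Suz = 448345497600 := Cfsg.Agent.SporadicRecognition.SuzOrder.card_Suz

theorem isoSuz_self : Spor.IsoSuz Cfsg.Spor.Suz := ⟨MulEquiv.refl _⟩

/-- elements of orders 7 and 11 do not commute -/
theorem nc_7_11 {x y : Cfsg.Spor.Suz} (hx : orderOf x = 11) (hy : orderOf y = 7) : ¬ Commute x y := by
  have : Finite Cfsg.Spor.Suz := Nat.finite_of_card_ne_zero (by rw [card_S]; norm_num)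
  intro hc
  have h1 : fx φ y = fx φ (el w7) := fx_eq φ (by norm_num) (by rw [card_S]; norm_num) hy order_w7
  have h2 : fx φ x = fx φ (el w11) := fx_eq φ (by norm_num) (by rw [card_S]; norm_num) hx order_w11
  have h3 := fx_w7
  have h4 := fx_w7'
  have h5 := fx_w11
  have h6 := fx_le_of_comm φ hc (r := 11) (by norm_num) hx (by omega)
  omega

/-- elements of orders 7 and 13 do not commute -/
theorem nc_7_13 {x y : Cfsg.Spor.Suz} (hx : orderOf x = 13) (hy : orderOf y = 7) : ¬ Commute x y := by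
  have : Finite Cfsg.Spor.Suz := Nat.finite_of_card_ne_zero (by rw [card_S]; norm_num)
  intro hc
  have h1 : fx φ y = fx φ (el w7) := fx_eq φ (by norm_num) (by rw [card_S]; norm_num) hy order_w7
  have h2 : fx φ x = fx φ (el w13) := fx_eq φ (by norm_num) (by rw [card_S]; norm_num) hx order_w13
  have h3 := fx_w7
  have h4 := fx_w7'
  have h5 := fx_w13
  have h6 := fx_le_of_comm φ hc (r := 13) (by norm_num) hx (by omega)
  omega

/-- no element of order 13 commutes with a conjugate of `w5` -/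
theorem nc_5_13 {x : Cfsg.Spor.Suz} (hx : orderOf x = 13) (g : Cfsg.Spor.Suz) : ¬ Commute (g * el w5 * g⁻¹) x := by
  have : Finite Cfsg.Spor.Suz := Nat.finite_of_card_ne_zero (by rw [card_S]; norm_num)
  intro hc
  have h1 : fx φ (g * el w5 * g⁻¹) = fx φ (el w5) := fx_conj φ g (el w5)
  have h2 : fx φ x = fx φ (el w13) := fx_eq φ (by norm_num) (by rw [card_S]; norm_num) hx order_w13
  have h3 := fx_w5
  have h4 := fx_w5'
  have h5 := fx_w13
  have h6 := fx_le_of_comm φ hc.symm (r := 13) (by norm_num) hx (by omega)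
  omega

theorem dvd_of_noComm {S : Type*} [Group S] [Finite S] {x : S} {q : ℕ} (hq : q.Prime) (hd : q ∣ Nat.card S)
    (h : ∀ y : S, orderOf y = q → ¬ Commute x y) : q ∣ (centralizer ({x} : Set S)).index := by
  have : Fact q.Prime := ⟨hq⟩
  refine dvd_index_of_not_dvd hq (k := 1) (by rwa [pow_one]) fun h1 => ?_
  obtain ⟨w, hw⟩ := exists_prime_orderOf_dvd_card' (G := centralizer ({x} : Set S)) q (by rwa [pow_one] at h1)
  exact h w (by rw [Subgroup.orderOf_coe, hw]) (mem_centralizer_singleton_iff.1 w.2).symm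

/-- some element of order 3 has no conjugate commuting with an element of order 13 -/
theorem nc_3_13 : ∃ y : Cfsg.Spor.Suz, orderOf y = 3 ∧
    ∀ x : Cfsg.Spor.Suz, orderOf x = 13 → ∀ g : Cfsg.Spor.Suz, ¬ Commute (g * y * g⁻¹) x := by
  have hF : Fact (Nat.Prime 3) := ⟨Nat.prime_three⟩
  have hfin : Finite Cfsg.Spor.Suz := Nat.finite_of_card_ne_zero (by rw [card_S]; norm_num)
  have h1 : Cfsg.Agent.PreUniq.Spor.SuzP.E ≠ ⊥ := by
    intro h
    have h2 := Cfsg.Agent.PreUniq.Spor.SuzP.card_E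
    rw [h, Subgroup.card_bot] at h2
    norm_num at h2
  obtain ⟨y, hy, hy1⟩ : ∃ y ∈ Cfsg.Agent.PreUniq.Spor.SuzP.E, y ≠ 1 := by
    by_contra h
    push Not at h
    exact h1 ((Subgroup.eq_bot_iff_forall _).2 h)
  have hy3 : orderOf y = 3 := orderOf_eq_prime (CpAutSuz.ThreeC.cube_E hy) hy1
  have hc := CpAutSuz.ThreeC.card_centralizer hy hy1
  refine ⟨y, hy3, fun x hx g hg => ?_⟩
  have h2 : g⁻¹ * x * g ∈ centralizer ({y} : Set Cfsg.Spor.Suz) := by
    rw [mem_centralizer_singleton_iff]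
    have h3 : g * y * g⁻¹ * x = x * (g * y * g⁻¹) := hg
    calc g⁻¹ * x * g * y = g⁻¹ * (x * (g * y * g⁻¹)) * g := by group
      _ = g⁻¹ * (g * y * g⁻¹ * x) * g := by rw [h3]
      _ = y * (g⁻¹ * x * g) := by group
  have h3 : orderOf (⟨_, h2⟩ : centralizer ({y} : Set Cfsg.Spor.Suz)) ∣ 3240 := by
    rw [← hc]; exact orderOf_dvd_natCard _
  have h4 : orderOf (g⁻¹ * x * g) = 13 := by
    have h5 : orderOf (MulAut.conj g⁻¹ x) = orderOf x :=
      orderOf_injective (MulAut.conj g⁻¹).toMonoidHom (MulAut.conj g⁻¹).injective _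
    rw [MulAut.conj_apply, inv_inv, hx] at h5
    exact h5
  rw [Subgroup.orderOf_mk, h4] at h3
  norm_num at h3

theorem pairRow_model : PairRow Cfsg.Spor.Suz := by
  have hfin : Finite Cfsg.Spor.Suz := Nat.finite_of_card_ne_zero (by rw [card_S]; norm_num)
  have hc := card_S
  have F2 : Fact (Nat.Prime 2) := ⟨Nat.prime_two⟩
  have F3 : Fact (Nat.Prime 3) := ⟨Nat.prime_three⟩
  have F5 : Fact (Nat.Prime 5) := ⟨Nat.prime_five⟩
  have F7 : Fact (Nat.Prime 7) := ⟨by norm_num⟩
  have F11 : Fact (Nat.Prime 11) := ⟨by norm_num⟩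
  have F13 : Fact (Nat.Prime 13) := ⟨by norm_num⟩
  have hL : Finite L := Nat.finite_of_card_ne_zero (by rw [card_L]; norm_num)
  -- the element of order fourteen
  obtain ⟨y, hy⟩ := exists_prime_orderOf_dvd_card' (G := L) 7 (by rw [card_L]; norm_num)
  have hy' : orderOf (y : Cfsg.Spor.Suz) = 7 := by rw [Subgroup.orderOf_coe]; exact hy
  have he : orderOf e0 = 2 := orderOf_eq_prime (by rw [pow_two]; exact e0_sq) e0_ne
  have hey : Commute e0 (y : Cfsg.Spor.Suz) := e0_comm y y.2
  have h14 : orderOf (e0 * (y : Cfsg.Spor.Suz)) = 2 * 7 := by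
    rw [hey.orderOf_mul_eq_mul_orderOf_of_coprime, he, hy']
    rw [he, hy']
    norm_num
  have v14 : VZ Cfsg.Spor.Suz (e0 * (y : Cfsg.Spor.Suz)) :=
    HasDZ.vz (p := 7) (H690.Spor.RankRows.suz isoSuz_self (Or.inl rfl)) (by rw [h14]; norm_num)
  have hle : centralizer ({e0 * (y : Cfsg.Spor.Suz)} : Set Cfsg.Spor.Suz) ≤ CE := by
    intro g hg
    have h1 := mem_centralizer_singleton_iff.1 hg
    refine mem_CE.2 ?_
    have h2 : e0 ∈ zpowers (e0 * (y : Cfsg.Spor.Suz)) := mem_zpowers_mul hey (by rw [he, hy']; norm_num)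
    obtain ⟨k, hk⟩ := mem_zpowers_iff.1 h2
    have h3 : Commute g (e0 * (y : Cfsg.Spor.Suz)) := h1
    have h4 : Commute g ((e0 * (y : Cfsg.Spor.Suz)) ^ k) := h3.zpow_right k
    exact (hk ▸ h4 : Commute g e0)
  have hd : Nat.card (centralizer ({e0 * (y : Cfsg.Spor.Suz)} : Set Cfsg.Spor.Suz)) ∣ 161280 := by
    rw [← card_CE]; exact card_dvd_of_le hle
  have h14i : ∀ p : ℕ, (p = 2 ∨ p = 3 ∨ p = 5 ∨ p = 11 ∨ p = 13) →
      p ∣ (centralizer ({e0 * (y : Cfsg.Spor.Suz)} : Set Cfsg.Spor.Suz)).index := by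
    rintro p (rfl | rfl | rfl | rfl | rfl)
    · exact dvd_index_of_not_dvd Nat.prime_two (k := 13) (by rw [hc]; norm_num) (fun h1 => by
        have := h1.trans hd
        norm_num at this)
    · exact dvd_index_of_not_dvd Nat.prime_three (k := 7) (by rw [hc]; norm_num) (fun h1 => by
        have := h1.trans hd
        norm_num at this)
    · exact dvd_index_of_not_dvd Nat.prime_five (k := 2) (by rw [hc]; norm_num) (fun h1 => by
        have := h1.trans hd
        norm_num at this)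
    · exact dvd_index_of_not_dvd (by norm_num) (k := 1) (by rw [hc]; norm_num) (fun h1 => by
        have := h1.trans hd
        norm_num at this)
    · exact dvd_index_of_not_dvd (by norm_num) (k := 1) (by rw [hc]; norm_num) (fun h1 => by
        have := h1.trans hd
        norm_num at this)
  -- the element of order thirteen
  have v13 : VZ Cfsg.Spor.Suz (el w13) :=
    HasDZ.vz (p := 13) (H695.Spor.RowB.hasDZ_suz_13 isoSuz_self) (by rw [order_w13])
  have h13i : ∀ p : ℕ, (p = 2 ∨ p = 3 ∨ p = 5 ∨ p = 7 ∨ p = 11) →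
      p ∣ (centralizer ({el w13} : Set Cfsg.Spor.Suz)).index := by
    rintro p (rfl | rfl | rfl | rfl | rfl)
    · exact dvd_of_noComm Nat.prime_two (by rw [hc]; norm_num) fun y hy hxy =>
        H759.NH.na_suz_model _ _ order_w13 hy hxy
    · obtain ⟨y3, hy3, h3⟩ := nc_3_13
      exact dvd_index_of_nc Nat.prime_three (y := y3) ⟨1, by rw [hy3, pow_one]⟩ (h3 _ order_w13)
    · exact dvd_index_of_nc Nat.prime_five (y := el w5) ⟨1, by rw [order_w5, pow_one]⟩ (nc_5_13 order_w13)
    · exact dvd_of_noComm (by norm_num) (by rw [hc]; norm_num) fun y hy => nc_7_13 order_w13 hy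
    · exact dvd_of_noComm (by norm_num) (by rw [hc]; norm_num) fun y hy hxy =>
        Cfsg.Agent.SporRec.SuzNo143.no143 _ _ order_w13 hy hxy
  -- the element of order eleven
  have v11 : VZ Cfsg.Spor.Suz (el w11) :=
    HasDZ.vz (p := 11) (H690.Spor.RankRows.suz isoSuz_self (Or.inr rfl)) (by rw [order_w11])
  have h11i : ∀ p : ℕ, (p = 7 ∨ p = 13) → p ∣ (centralizer ({el w11} : Set Cfsg.Spor.Suz)).index := by
    rintro p (rfl | rfl)
    · exact dvd_of_noComm (by norm_num) (by rw [hc]; norm_num) fun y hy => nc_7_11 order_w11 hy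
    · exact dvd_of_noComm (by norm_num) (by rw [hc]; norm_num) fun y hy hxy =>
        Cfsg.Agent.SporRec.SuzNo143.no143 _ _ hy order_w11 hxy.symm
  -- the primes
  have hpr : ∀ p : ℕ, p.Prime → p ∣ Nat.card Cfsg.Spor.Suz → p = 2 ∨ p = 3 ∨ p = 5 ∨ p = 7 ∨ p = 11 ∨ p = 13 := by
    intro p hp hd
    rw [hc, show 448345497600 = 2 ^ 13 * 3 ^ 7 * 5 ^ 2 * 7 * 11 * 13 by norm_num] at hd
    rcases hp.dvd_mul.1 hd with hd | hd
    · rcases hp.dvd_mul.1 hd with hd | hd
      · rcases hp.dvd_mul.1 hd with hd | hd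
        · rcases hp.dvd_mul.1 hd with hd | hd
          · rcases hp.dvd_mul.1 hd with hd | hd
            · exact Or.inl ((Nat.prime_dvd_prime_iff_eq hp Nat.prime_two).1 (hp.dvd_of_dvd_pow hd))
            · exact Or.inr (Or.inl ((Nat.prime_dvd_prime_iff_eq hp Nat.prime_three).1 (hp.dvd_of_dvd_pow hd)))
          · exact Or.inr (Or.inr (Or.inl ((Nat.prime_dvd_prime_iff_eq hp Nat.prime_five).1 (hp.dvd_of_dvd_pow hd))))
        · exact Or.inr (Or.inr (Or.inr (Or.inl ((Nat.prime_dvd_prime_iff_eq hp (by norm_num)).1 hd))))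
      · exact Or.inr (Or.inr (Or.inr (Or.inr (Or.inl ((Nat.prime_dvd_prime_iff_eq hp (by norm_num)).1 hd)))))
    · exact Or.inr (Or.inr (Or.inr (Or.inr (Or.inr ((Nat.prime_dvd_prime_iff_eq hp (by norm_num)).1 hd)))))
  intro p q hp hq hpq hpd hqd
  rcases hpr p hp hpd with rfl | rfl | rfl | rfl | rfl | rfl <;>
    rcases hpr q hq hqd with rfl | rfl | rfl | rfl | rfl | rfl <;>
    first
    | exact absurd rfl hpq
    | exact ⟨_, v14, h14i _ (by decide), h14i _ (by decide)⟩
    | exact ⟨_, v13, h13i _ (by decide), h13i _ (by decide)⟩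
    | exact ⟨_, v11, h11i _ (by decide), h11i _ (by decide)⟩

end main

/-- **The pair row of `Suz`.** -/
theorem pairRow {K : Type*} [Group K] (h : Spor.IsoSuz K) : PairRow K := by
  obtain ⟨e⟩ := h
  exact PairRow.mulEquiv e.symm pairRow_model

end Cfsg.Agent.H759.Pair.Suz
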