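import Cfsg.Agent.H759.Pair.Tools
import Cfsg.Agent.H442.ZerosTwisted
import Cfsg.Agent.H690.Spor.Tits
import Cfsg.Agent.H547.SelfCent.Tits
import Cfsg.Agent.H393.Iso.TitsJ4
import Cfsg.Agent.H620.RowSporA
import Cfsg.Agent.CpAutTits.Row
import Cfsg.Agent.S1074

/-!
# The pair row of the Tits group (S4938, helper759)
-/

set_option autoImplicit false

namespace Cfsg.Agent.H759.Pair.Tits

open Subgroup Cfsg Cfsg.Agent.H665.NoPQ Cfsg.Agent.H730.Pair Cfsg.Agent.H713 Cfsg.Agent.H393.Iso

theorem dz_equiv {X Y : Type*} [Group X] [Group Y] [Finite Y] (e : X ≃* Y) {p n m : ℕ} (hp : p.Prime) (hm : ¬ p ∣ m)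
    (hc : Nat.card Y = p ^ n * m) (h : ∃ χ : IrrCharacter Y, charDegree (χ : Y → ℂ) = p ^ n) : HasDZ p X := by
  obtain ⟨χ, hχ⟩ := h
  refine HasDZ.mulEquiv e.symm ⟨χ, ?_⟩
  have h1 : (Nat.card Y).factorization p = n := by
    exact H419.Row.factorization_eq hp hc hm
  rw [h1, hχ]
  exact H419.Row.factorization_eq hp (m := 1) (mul_one _).symm (fun h => hp.one_lt.ne' (Nat.dvd_one.1 h))

theorem simple_equiv {X Y : Type*} [Group X] [Group Y] (h : IsSimpleGroup Y) (e : X ≃* Y) : IsSimpleGroup X :=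
  e.isSimpleGroup

theorem dz_of_nonempty {G : Type*} [Group G] {T : Subgroup G} {X : Type*} [Group X] (h : Nonempty (X ≃* T))
    {p n m : ℕ} (hp : p.Prime) (hm : ¬ p ∣ m) (h0 : p ^ n * m ≠ 0)
    (hc : Nat.card T = p ^ n * m) (hd : ∃ χ : IrrCharacter T, charDegree (χ : T → ℂ) = p ^ n) : HasDZ p X := by
  have : Finite T := Nat.finite_of_card_ne_zero (by rw [hc]; exact h0)
  obtain ⟨e⟩ := h
  exact dz_equiv e hp hm hc hd

theorem dz_two {K : Type*} [Group K] (h : Lie.IsoTits K) : HasDZ 2 K :=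
  dz_of_nonempty h Nat.prime_two (n := 11) (m := 3 ^ 3 * 5 ^ 2 * 13) (by norm_num) (by norm_num)
    H442.ZerosTwisted.card_tits H442.ZerosTwisted.exists_deg

theorem simple {K : Type*} [Group K] (h : Lie.IsoTits K) : IsSimpleGroup K := by
  obtain ⟨e⟩ := h
  exact simple_equiv Cfsg.Agent.S1074.result.2.1 e

theorem pairRow {K : Type*} [Group K] (h : Lie.IsoTits K) : PairRow K := by
  have hfin : Finite K := H690.Spor.Tits.finite h
  have ho := CpAutTits.Row.out h
  have hc : Nat.card K = 2 ^ 11 * 3 ^ 3 * 5 ^ 2 * 13 := ho.card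
  have hs : IsSimpleGroup K := simple h
  have F2 : Fact (Nat.Prime 2) := ⟨Nat.prime_two⟩
  have F3 : Fact (Nat.Prime 3) := ⟨Nat.prime_three⟩
  have F5 : Fact (Nat.Prime 5) := ⟨Nat.prime_five⟩
  have F13 : Fact (Nat.Prime 13) := ⟨by norm_num⟩
  -- the element of order ten
  obtain ⟨y, hy⟩ : ∃ y : K, orderOf y = 5 := exists_prime_orderOf_dvd_card' 5 (by rw [hc]; norm_num)
  have hy50 := ho.cent y hy
  obtain ⟨i, hi⟩ : ∃ i : centralizer ({y} : Set K), orderOf i = 2 :=
    exists_prime_orderOf_dvd_card' 2 (by rw [hy50]; norm_num)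
  have hi2 : orderOf (i : K) = 2 := by rw [Subgroup.orderOf_coe, hi]
  have hiy : Commute y (i : K) := (mem_centralizer_singleton_iff.1 i.2).symm
  have h10 : orderOf (y * (i : K)) = 5 * 2 := by
    rw [hiy.orderOf_mul_eq_mul_orderOf_of_coprime (by rw [hy, hi2]; norm_num), hy, hi2]
  have hle : centralizer ({y * (i : K)} : Set K) ≤ centralizer ({y} : Set K) := by
    intro g hg
    have h1 := mem_centralizer_singleton_iff.1 hg
    rw [mem_centralizer_singleton_iff]
    have h2 : y ∈ zpowers (y * (i : K)) := mem_zpowers_mul hiy (by rw [hy, hi2]; norm_num)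
    obtain ⟨k, hk⟩ := mem_zpowers_iff.1 h2
    have h3 : Commute g (y * (i : K)) := h1
    have h4 : Commute g ((y * (i : K)) ^ k) := h3.zpow_right k
    exact (hk ▸ h4 : Commute g y)
  have hd50 : Nat.card (centralizer ({y * (i : K)} : Set K)) ∣ 50 := by
    rw [← hy50]; exact card_dvd_of_le hle
  have h10i : ∀ p : ℕ, (p = 2 ∨ p = 3 ∨ p = 13) → p ∣ (centralizer ({y * (i : K)} : Set K)).index := by
    rintro p (rfl | rfl | rfl)
    · exact dvd_index_of_not_dvd Nat.prime_two (k := 2) (by rw [hc]; norm_num) (fun h1 => by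
        have := h1.trans hd50
        norm_num at this)
    · exact dvd_index_of_not_dvd Nat.prime_three (k := 1) (by rw [hc]; norm_num) (fun h1 => by
        have := h1.trans hd50
        norm_num at this)
    · exact dvd_index_of_not_dvd (by norm_num) (k := 1) (by rw [hc]; norm_num) (fun h1 => by
        have := h1.trans hd50
        norm_num at this)
  have v10 : VZ K (y * (i : K)) := HasDZ.vz (p := 2) (dz_two h) (by rw [h10]; norm_num)
  -- the element of order thirteen
  obtain ⟨x, hx⟩ : ∃ x : K, orderOf x = 13 := exists_prime_orderOf_dvd_card' 13 (by rw [hc]; norm_num)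
  have h13 : ∀ {x : K}, orderOf x = 13 → Nat.card (centralizer ({x} : Set K)) = 13 :=
    fun hx => H547.SelfCent.tits h hs (na_tits h) hx
  have v13 : VZ K x := HasDZ.vz (p := 13) (H690.Spor.Tits.hasDZ h (by norm_num) (by norm_num) (by norm_num))
    (by rw [hx])
  have h13i : ∀ p : ℕ, (p = 2 ∨ p = 3 ∨ p = 5) → p ∣ (centralizer ({x} : Set K)).index := by
    rintro p (rfl | rfl | rfl)
    · exact dvd_index_of_not_dvd Nat.prime_two (k := 1) (by rw [hc]; norm_num) (fun h1 => by
        rw [h13 hx] at h1; norm_num at h1)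
    · exact dvd_index_of_not_dvd Nat.prime_three (k := 1) (by rw [hc]; norm_num) (fun h1 => by
        rw [h13 hx] at h1; norm_num at h1)
    · exact dvd_index_of_not_dvd Nat.prime_five (k := 1) (by rw [hc]; norm_num) (fun h1 => by
        rw [h13 hx] at h1; norm_num at h1)
  -- the element of order three
  obtain ⟨z, hz⟩ : ∃ z : K, orderOf z = 3 := exists_prime_orderOf_dvd_card' 3 (by rw [hc]; norm_num)
  have v3 : VZ K z := HasDZ.vz (p := 3) (H690.Spor.Tits.hasDZ h (by norm_num) (by norm_num) (by norm_num))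
    (by rw [hz])
  have h3i : ∀ p : ℕ, (p = 5 ∨ p = 13) → p ∣ (centralizer ({z} : Set K)).index := by
    rintro p (rfl | rfl)
    · refine dvd_index_of_not_dvd Nat.prime_five (k := 1) (by rw [hc]; norm_num) fun h1 => ?_
      obtain ⟨w, hw⟩ := exists_prime_orderOf_dvd_card' (G := centralizer ({z} : Set K)) 5 (by simpa using h1)
      exact ho.ncomm z w hz (by rw [Subgroup.orderOf_coe, hw]) (mem_centralizer_singleton_iff.1 w.2).symm
    · refine dvd_index_of_not_dvd (by norm_num) (k := 1) (by rw [hc]; norm_num) fun h1 => ?_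
      obtain ⟨w, hw⟩ := exists_prime_orderOf_dvd_card' (G := centralizer ({z} : Set K)) 13 (by simpa using h1)
      have h2 := h13 (x := (w : K)) (by rw [Subgroup.orderOf_coe, hw])
      have h3 : z ∈ centralizer ({(w : K)} : Set K) :=
        mem_centralizer_singleton_iff.2 (mem_centralizer_singleton_iff.1 w.2).symm
      have h4 : orderOf (⟨z, h3⟩ : centralizer ({(w : K)} : Set K)) ∣ 13 := by
        rw [← h2]; exact orderOf_dvd_natCard _
      rw [Subgroup.orderOf_mk, hz] at h4
      norm_num at h4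
  -- the primes
  have hpr : ∀ p : ℕ, p.Prime → p ∣ Nat.card K → p = 2 ∨ p = 3 ∨ p = 5 ∨ p = 13 := by
    intro p hp hd
    rw [hc] at hd
    rcases hp.dvd_mul.1 hd with hd | hd
    · rcases hp.dvd_mul.1 hd with hd | hd
      · rcases hp.dvd_mul.1 hd with hd | hd
        · exact Or.inl ((Nat.prime_dvd_prime_iff_eq hp Nat.prime_two).1 (hp.dvd_of_dvd_pow hd))
        · exact Or.inr (Or.inl ((Nat.prime_dvd_prime_iff_eq hp Nat.prime_three).1 (hp.dvd_of_dvd_pow hd)))
      · exact Or.inr (Or.inr (Or.inl ((Nat.prime_dvd_prime_iff_eq hp Nat.prime_five).1 (hp.dvd_of_dvd_pow hd))))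
    · exact Or.inr (Or.inr (Or.inr ((Nat.prime_dvd_prime_iff_eq hp (by norm_num)).1 hd)))
  intro p q hp hq hpq hpd hqd
  rcases hpr p hp hpd with rfl | rfl | rfl | rfl <;> rcases hpr q hq hqd with rfl | rfl | rfl | rfl <;>
    first
    | exact absurd rfl hpq
    | exact ⟨_, v10, h10i _ (by decide), h10i _ (by decide)⟩
    | exact ⟨_, v13, h13i _ (by decide), h13i _ (by decide)⟩
    | exact ⟨_, v3, h3i _ (by decide), h3i _ (by decide)⟩

end Cfsg.Agent.H759.Pair.Tits
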