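import Cfsg.Agent.H730.PairRow

/-!
# Tools for the pair rows of S4938 (helper759)

* `dvd_index_of_nc` : no conjugate of the `p`-element `y` commutes with `x` : `p ∣ |G : C(x)|`;
* `fixed_of_comm` : an element of prime order `r` commuting with `y` fixes the fixed points of `y` if there are fewer
  than `r`.
-/

set_option autoImplicit false

namespace Cfsg.Agent.H759.Pair

open Subgroup

theorem dvd_index_of_nc {X : Type*} [Group X] [Finite X] {p : ℕ} (hp : p.Prime) {x y : X}
    (hy : ∃ k : ℕ, orderOf y = p ^ k) (h : ∀ g : X, ¬ Commute (g * y * g⁻¹) x) :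
    p ∣ (centralizer ({x} : Set X)).index := by
  have : Fact p.Prime := ⟨hp⟩
  by_contra hcon
  obtain ⟨P⟩ : Nonempty (Sylow p (centralizer ({x} : Set X))) := inferInstance
  -- the Sylow subgroup of the centralizer
  set Q : Subgroup X := (P : Subgroup (centralizer ({x} : Set X))).map (centralizer ({x} : Set X)).subtype with hQ
  have hQp : IsPGroup p Q := P.isPGroup'.map _
  have hQi : ¬ p ∣ Q.index := by
    have h1 : Q.index = (P : Subgroup (centralizer ({x} : Set X))).index * (centralizer ({x} : Set X)).index := by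
      rw [hQ, index_map_subtype]
    rw [h1, hp.dvd_mul]
    rintro (h2 | h2)
    · exact P.not_dvd_index h2
    · exact hcon h2
  have hyp : IsPGroup p (zpowers y) := by
    obtain ⟨k, hk⟩ := hy
    exact IsPGroup.of_card (n := k) (by rw [Nat.card_zpowers, hk])
  obtain ⟨R, hR⟩ := hyp.exists_le_sylow
  obtain ⟨g, hg⟩ := MulAction.exists_smul_eq X R (hQp.toSylow hQi)
  have h1 : g * y * g⁻¹ ∈ (hQp.toSylow hQi : Subgroup X) := by
    rw [← hg, Sylow.coe_subgroup_smul]
    exact ⟨y, hR (mem_zpowers y), rfl⟩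
  have h2 : g * y * g⁻¹ ∈ Q := h1
  obtain ⟨c, -, hc⟩ := h2
  apply h g
  have h3 : (c : X) * x = x * c := mem_centralizer_singleton_iff.1 c.2
  have h4 : (c : X) = g * y * g⁻¹ := hc
  rw [← h4]
  exact h3

theorem fixed_of_comm {Ω : Type*} [Finite Ω] {a y : Equiv.Perm Ω} (hc : Commute a y) {r : ℕ} (hr : r.Prime)
    (ha : a ^ r = 1) (hf : {i : Ω | y i = i}.ncard < r) {i : Ω} (hi : y i = i) : a i = i := by
  by_contra hne
  -- the iterates
  have h1 : ∀ n : ℕ, y ((a ^ n) i) = (a ^ n) i := by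
    intro n
    have h2 : Commute (a ^ n) y := hc.pow_left n
    calc y ((a ^ n) i) = (y * a ^ n) i := rfl
      _ = (a ^ n * y) i := by rw [h2.eq]
      _ = (a ^ n) (y i) := rfl
      _ = (a ^ n) i := by rw [hi]
  have hper : Function.minimalPeriod a i = r := by
    have h2 : Function.IsPeriodicPt a r i := by
      show (a : Ω → Ω)^[r] i = i
      rw [Equiv.Perm.iterate_eq_pow, ha]
      rfl
    rcases (Nat.dvd_prime hr).1 h2.minimalPeriod_dvd with h3 | h3
    · exact absurd (Function.minimalPeriod_eq_one_iff_isFixedPt.1 h3) hne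
    · exact h3
  have hinj : Set.InjOn (fun n : ℕ => (a ^ n) i) (Set.Iio r) := by
    intro m hm n hn hmn
    have h2 : (a : Ω → Ω)^[m] i = (a : Ω → Ω)^[n] i := by
      rw [Equiv.Perm.iterate_eq_pow, Equiv.Perm.iterate_eq_pow]; exact hmn
    exact Function.iterate_injOn_Iio_minimalPeriod (by rw [hper]; exact hm) (by rw [hper]; exact hn) h2
  have h2 : ((fun n : ℕ => (a ^ n) i) '' (Set.Iio r)).ncard = r := by
    rw [hinj.ncard_image]
    simp
  have h3 : ((fun n : ℕ => (a ^ n) i) '' (Set.Iio r)).ncard ≤ {i : Ω | y i = i}.ncard := by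
    refine Set.ncard_le_ncard ?_ (Set.toFinite _)
    rintro _ ⟨n, -, rfl⟩
    exact h1 n
  omega

section act

variable {X : Type*} [Group X] {Ω : Type*} [Finite Ω] (φ : X →* Equiv.Perm Ω)

/-- the number of fixed points -/
noncomputable def fx (x : X) : ℕ := {i : Ω | φ x i = i}.ncard

theorem fx_conj (g x : X) : fx φ (g * x * g⁻¹) = fx φ x := by
  unfold fx
  have h1 : {i : Ω | φ (g * x * g⁻¹) i = i} = (φ g) '' {i : Ω | φ x i = i} := by
    ext i
    constructor
    · intro h
      refine ⟨(φ g)⁻¹ i, ?_, by simp⟩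
      have h2 : φ (g * x * g⁻¹) i = i := h
      rw [map_mul, map_mul, map_inv, Equiv.Perm.mul_apply, Equiv.Perm.mul_apply] at h2
      show φ x ((φ g)⁻¹ i) = (φ g)⁻¹ i
      rw [Equiv.Perm.eq_inv_iff_eq]
      exact h2
    · rintro ⟨j, hj, rfl⟩
      show φ (g * x * g⁻¹) (φ g j) = φ g j
      rw [← Equiv.Perm.mul_apply, ← map_mul, inv_mul_cancel_right, map_mul, Equiv.Perm.mul_apply]
      rw [show φ x j = j from hj]
  rw [h1, Set.ncard_image_of_injective _ (φ g).injective]

theorem fx_zpow_le (x : X) (k : ℤ) : fx φ x ≤ fx φ (x ^ k) := by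
  refine Set.ncard_le_ncard ?_ (Set.toFinite _)
  intro i hi
  show φ (x ^ k) i = i
  rw [map_zpow]
  exact Equiv.Perm.zpow_apply_eq_self_of_apply_eq_self hi k

/-- the elements of order `r` have the same number of fixed points if the Sylow subgroups have order `r` -/
theorem fx_eq [Finite X] {r : ℕ} (hr : r.Prime) (hr2 : ¬ r * r ∣ Nat.card X) {x w : X} (hx : orderOf x = r)
    (hw : orderOf w = r) : fx φ x = fx φ w := by
  have : Fact r.Prime := ⟨hr⟩
  have key : ∀ {x w : X}, orderOf x = r → orderOf w = r → fx φ x ≤ fx φ w := by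
    intro x w hx hw
    have hyp : ∀ {y : X}, orderOf y = r → ∃ R : Sylow r X, (R : Subgroup X) = zpowers y := by
      intro y hy
      have h1 : IsPGroup r (zpowers y) := IsPGroup.of_card (n := 1) (by rw [Nat.card_zpowers, hy, pow_one])
      obtain ⟨R, hR⟩ := h1.exists_le_sylow
      refine ⟨R, (Subgroup.eq_of_le_of_card_ge hR ?_).symm⟩
      obtain ⟨k, hk⟩ := IsPGroup.iff_card.1 R.2
      rw [hk, Nat.card_zpowers, hy]
      have h4 : k < 2 := by
        by_contra hk2
        refine hr2 ?_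
        rw [← pow_two]
        refine (Nat.pow_dvd_pow r (not_lt.1 hk2)).trans ?_
        rw [← hk]; exact card_subgroup_dvd_card _
      calc r ^ k ≤ r ^ 1 := Nat.pow_le_pow_right hr.pos (by omega)
        _ = r := pow_one r
    obtain ⟨R, hR⟩ := hyp hx
    obtain ⟨S, hS⟩ := hyp hw
    obtain ⟨g, hg⟩ := MulAction.exists_smul_eq X S R
    have h1 : g * w * g⁻¹ ∈ (R : Subgroup X) := by
      rw [← hg, Sylow.coe_subgroup_smul]
      exact ⟨w, by rw [hS]; exact mem_zpowers w, rfl⟩
    rw [hR] at h1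
    obtain ⟨k, hk⟩ := h1
    have hk' : x ^ k = g * w * g⁻¹ := hk
    rw [← fx_conj φ g w, ← hk']
    exact fx_zpow_le φ x k
  exact le_antisymm (key hx hw) (key hw hx)

/-- **Commuting elements**: `a` of prime order `r`, `y` with fewer than `r` fixed points. -/
theorem fx_le_of_comm {a y : X} (hc : Commute a y) {r : ℕ} (hr : r.Prime) (ha : orderOf a = r) (hf : fx φ y < r) :
    fx φ y ≤ fx φ a := by
  refine Set.ncard_le_ncard ?_ (Set.toFinite _)
  intro i hi
  refine fixed_of_comm (a := φ a) (y := φ y) ?_ hr ?_ hf hi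
  · exact (show φ a * φ y = φ y * φ a by rw [← map_mul, hc.eq, map_mul])
  · rw [← map_pow, ← ha, pow_orderOf_eq_one, map_one]

end act

end Cfsg.Agent.H759.Pair
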